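import Groth.Agent.GeomBranch7.C2Norm
import Groth.Agent.Rig7.Branch
import Groth.Agent.BrnchLib.LeCompletion
import Groth.Agent.S16576
import Groth.Agent.S0547
import Groth.Agent.S0540
import Groth.Agent.FlatLoc6.Cpl

/-! The condition that all components have dimension at least two. -/

set_option linter.style.haveILetI false

universe u

open IsLocalRing

namespace Groth.Agent.GeomBranch7

/-- All components have dimension at least two iff no component is a curve and the dimension is nonzero. -/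
theorem two_le_iff (R : Type u) [CommRing R] [IsLocalRing R] :
    (∀ P ∈ minimalPrimes R, (2 : WithBot ℕ∞) ≤ ringKrullDim (R ⧸ P)) ↔
      ¬ Rig7.HasCurveComponent R ∧ ringKrullDim R ≠ 0 := by
  constructor
  · refine fun h => ⟨fun ⟨P, hP, hd⟩ => ?_, fun h0 => ?_⟩
    · have := h P hP
      rw [hd] at this
      exact absurd this (by decide)
    · obtain ⟨P, hP, -⟩ := Ideal.exists_minimalPrimes_le (I := (⊥ : Ideal R)) (J := maximalIdeal R) bot_le
      have := (h P hP).trans (ringKrullDim_quotient_le P)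
      rw [h0] at this
      exact absurd this (by decide)
  · rintro ⟨hc, h0⟩ P hP
    haveI := hP.1.1
    by_contra hlt
    by_cases hPm : P = maximalIdeal R
    · refine h0 (le_antisymm ?_ ringKrullDim_nonneg_of_nontrivial)
      rw [← maximalIdeal_height_eq_ringKrullDim, Ideal.height_eq_zero_iff.2 (hPm ▸ hP)]
      rfl
    refine hc ⟨P, hP, (Rig7.dim_eq_one_iff P).2 ⟨hPm, fun Q hQ hPQ => ?_⟩⟩
    by_contra hne
    refine hlt ?_
    rw [ringKrullDim_quotient]
    let a : PrimeSpectrum.zeroLocus (P : Set R) := ⟨⟨P, inferInstance⟩, le_refl P⟩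
    let b : PrimeSpectrum.zeroLocus (P : Set R) := ⟨⟨Q, hQ⟩, hPQ.le⟩
    let c : PrimeSpectrum.zeroLocus (P : Set R) :=
      ⟨⟨maximalIdeal R, inferInstance⟩, le_maximalIdeal (Ideal.IsPrime.ne_top inferInstance)⟩
    have hab : a < b := hPQ
    have hbc : b < c := lt_of_le_of_ne (show Q ≤ maximalIdeal R from le_maximalIdeal hQ.ne_top) fun e =>
      hne (congrArg (fun z => z.1.asIdeal) e)
    let l : LTSeries (PrimeSpectrum.zeroLocus (P : Set R)) := ⟨2, ![a, b, c], fun i => by fin_cases i <;> assumption⟩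
    exact le_iSup_of_le l le_rfl

/-- Components of dimension at least two descend along a flat local map with trivial closed fibre. -/
theorem two_le_descend (C C' : Type u) [CommRing C] [CommRing C'] [IsNoetherianRing C] [IsNoetherianRing C']
    [IsLocalRing C] [IsLocalRing C'] [Algebra C C'] [IsLocalHom (algebraMap C C')] [Module.FaithfullyFlat C C']
    (hm : (maximalIdeal C).map (algebraMap C C') = maximalIdeal C')
    (h : ∀ P ∈ minimalPrimes C', (2 : WithBot ℕ∞) ≤ ringKrullDim (C' ⧸ P)) :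
    ∀ P ∈ minimalPrimes C, (2 : WithBot ℕ∞) ≤ ringKrullDim (C ⧸ P) := by
  intro Q hQ
  haveI := hQ.1.1
  obtain ⟨x, hx⟩ := PrimeSpectrum.comap_surjective_of_faithfullyFlat (B := C') (⟨Q, hQ.1.1⟩ : PrimeSpectrum C)
  obtain ⟨P, hP, hPx⟩ := Ideal.exists_minimalPrimes_le (I := (⊥ : Ideal C')) (J := x.asIdeal) bot_le
  haveI := hP.1.1
  haveI : (P.comap (algebraMap C C')).IsPrime := Ideal.IsPrime.comap _
  have hle : P.comap (algebraMap C C') ≤ Q := (Ideal.comap_mono hPx).trans (congrArg PrimeSpectrum.asIdeal hx).le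
  have hPQ : P.comap (algebraMap C C') = Q := le_antisymm hle (hQ.2 ⟨inferInstance, bot_le⟩ hle)
  letI : Algebra (C ⧸ Q) (C' ⧸ P) := Ideal.Quotient.algebraQuotientOfLEComap hPQ.ge
  haveI : IsLocalRing (C ⧸ Q) := .of_surjective' _ Ideal.Quotient.mk_surjective
  haveI : IsLocalRing (C' ⧸ P) := .of_surjective' _ Ideal.Quotient.mk_surjective
  have hmC : (maximalIdeal C).map (Ideal.Quotient.mk Q) = maximalIdeal (C ⧸ Q) :=
    map_maximalIdeal_of_surjective _ Ideal.Quotient.mk_surjective
  have hmC' : (maximalIdeal C').map (Ideal.Quotient.mk P) = maximalIdeal (C' ⧸ P) :=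
    map_maximalIdeal_of_surjective _ Ideal.Quotient.mk_surjective
  have hm' : (maximalIdeal (C ⧸ Q)).map (algebraMap (C ⧸ Q) (C' ⧸ P)) = maximalIdeal (C' ⧸ P) := by
    rw [← hmC, ← hmC', Ideal.map_map, ← hm, Ideal.map_map]
    rfl
  haveI : (maximalIdeal (C' ⧸ P)).LiesOver (maximalIdeal (C ⧸ Q)) :=
    ⟨((maximalIdeal.isMaximal _).eq_of_le (Ideal.IsPrime.ne_top (Ideal.IsPrime.comap _))
      (Ideal.map_le_iff_le_comap.1 hm'.le))⟩
  have h1 := Ideal.height_le_height_add_of_liesOver (maximalIdeal (C ⧸ Q)) (maximalIdeal (C' ⧸ P))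
  rw [hm', Ideal.map_quotient_self] at h1
  haveI : Nontrivial ((C' ⧸ P) ⧸ maximalIdeal (C' ⧸ P)) :=
    Ideal.Quotient.nontrivial_iff.mpr (maximalIdeal.isMaximal (C' ⧸ P)).ne_top
  rw [Ideal.height_bot, add_zero] at h1
  refine (h P hP).trans ?_
  rw [← maximalIdeal_height_eq_ringKrullDim, ← maximalIdeal_height_eq_ringKrullDim]
  exact WithBot.coe_le_coe.2 h1

theorem c2_tfae (A : Type u) [CommRing A] [IsNoetherianRing A] [IsLocalRing A]
    (S : Type u) [CommRing S] [IsLocalRing S] [Algebra A S] [IsLocalHom (algebraMap A S)]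
    [_root_.Hensel.IsHenselization A S]
    (S' : Type u) [CommRing S'] [IsLocalRing S'] [Algebra A S'] [IsLocalHom (algebraMap A S')]
    [_root_.Hensel.IsStrictHenselization A S'] :
    ((∀ p ∈ minimalPrimes S, (2 : WithBot ℕ∞) ≤ ringKrullDim (S ⧸ p)) ↔
      ∀ q ∈ minimalPrimes (AdicCompletion (maximalIdeal A) A),
        (2 : WithBot ℕ∞) ≤ ringKrullDim (AdicCompletion (maximalIdeal A) A ⧸ q)) ∧
    ((∀ p ∈ minimalPrimes S', (2 : WithBot ℕ∞) ≤ ringKrullDim (S' ⧸ p)) ↔
      ∀ q ∈ minimalPrimes (AdicCompletion (maximalIdeal A) A),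
        (2 : WithBot ℕ∞) ≤ ringKrullDim (AdicCompletion (maximalIdeal A) A ⧸ q)) := by
  have hH := Hensel.isHenzLike_of_isHenselization A S
  have hH' := Hensel.isHenzLike_of_isStrictHenselization A S'
  haveI : IsNoetherianRing S := hH.isNoetherianRing_iff.1 inferInstance
  haveI : IsNoetherianRing S' := hH'.isNoetherianRing_iff.1 inferInstance
  haveI : HenselianLocalRing S := _root_.Hensel.IsHenselization.henselian A
  haveI : HenselianLocalRing S' := _root_.Hensel.IsStrictHenselization.henselian A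
  haveI : IsLocalRing (AdicCompletion (maximalIdeal A) A) := AdicCompletion.isLocalRing_of_fg (IsNoetherian.noetherian _)
  haveI : IsLocalRing (AdicCompletion (maximalIdeal S') S') := AdicCompletion.isLocalRing_of_fg (IsNoetherian.noetherian _)
  refine ⟨?_, ?_⟩
  · rw [two_le_iff, two_le_iff, Rig7.hasCurveComponent_completion_iff (R := S), hH.ringKrullDim_eq, S0547.result A]
    exact and_congr_left' (not_congr ⟨Rig7.HasCurveComponent.of_ringEquiv (BrnchLib.complEquiv A S),
      Rig7.HasCurveComponent.of_ringEquiv (BrnchLib.complEquiv A S).symm⟩)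
  · have hS' : (∀ p ∈ minimalPrimes S', (2 : WithBot ℕ∞) ≤ ringKrullDim (S' ⧸ p)) ↔
        ∀ q ∈ minimalPrimes (AdicCompletion (maximalIdeal S') S'),
          (2 : WithBot ℕ∞) ≤ ringKrullDim (AdicCompletion (maximalIdeal S') S' ⧸ q) := by
      rw [two_le_iff, two_le_iff, Rig7.hasCurveComponent_completion_iff (R := S'), S0547.result S']
    rw [hS']
    haveI := hH'.faithfullyFlat
    constructor
    · intro h
      haveI := FlatLoc6.isNoetherianRing_cpl A
      haveI := FlatLoc6.isNoetherianRing_cpl S'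
      haveI : IsLocalRing (EGA4.Cpl A) := FlatLoc6.isLocalRing_cpl A
      haveI : IsLocalRing (EGA4.Cpl S') := FlatLoc6.isLocalRing_cpl S'
      obtain ⟨_, hst, hff⟩ := FlatLoc6.exists_cplHom A S'
      haveI := hst
      haveI := hff
      have hm : (maximalIdeal (EGA4.Cpl A)).map (algebraMap (EGA4.Cpl A) (EGA4.Cpl S')) = maximalIdeal (EGA4.Cpl S') := by
        rw [AdicCompletion.maximalIdeal_eq_map_of_fg (IsNoetherian.noetherian _), Ideal.map_map,
          ← IsScalarTower.algebraMap_eq, IsScalarTower.algebraMap_eq A S' (EGA4.Cpl S'), ← Ideal.map_map,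
          hH'.map_maximalIdeal, AdicCompletion.maximalIdeal_eq_map_of_fg (IsNoetherian.noetherian _)]
      haveI : IsLocalHom (algebraMap (EGA4.Cpl A) (EGA4.Cpl S')) := ((local_hom_TFAE _).out 0 2).mpr hm.le
      exact two_le_descend (EGA4.Cpl A) (EGA4.Cpl S') hm h
    · intro h
      exact S16576.result A S' (algebraMap A S') (RingHom.flat_algebraMap_iff.2 inferInstance) h

end Groth.Agent.GeomBranch7
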