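import Groth.Agent.BrnchLib.NormBij
import Groth.Agent.EGA41Lib.IntDim
import Mathlib.RingTheory.Ideal.KrullsHeightTheorem

/-! Dimensions of the components of a henselization and heights of maximal ideals of a normal cover. -/

noncomputable section

namespace Groth.Agent.GeomBranch7

universe u

open IsLocalRing TensorProduct Groth.Agent.Hensel Groth.Agent.BrnchLib

set_option linter.style.haveILetI false

theorem quotient_dim_le_height {T : Type u} [CommRing T] (Q n : Ideal T) [n.IsPrime]
    (h : ∀ P : PrimeSpectrum T, Q ≤ P.asIdeal → P.asIdeal ≤ n) : ringKrullDim (T ⧸ Q) ≤ n.height := by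
  rw [(⟨n, inferInstance⟩ : PrimeSpectrum T).height_eq_orderHeight, Order.height_eq_krullDim_Iic,
    ringKrullDim_quotient]
  exact Order.krullDim_le_of_strictMono
    (fun p : PrimeSpectrum.zeroLocus (Q : Set T) => (⟨p.1, h p.1 p.2⟩ : Set.Iic (⟨n, inferInstance⟩ : PrimeSpectrum T)))
    fun _ _ h => h

theorem height_le_quotient_dim {T : Type u} [CommRing T] (Q n : Ideal T) [n.IsPrime]
    (h : ∀ P : PrimeSpectrum T, P.asIdeal ≤ n → Q ≤ P.asIdeal) : (n.height : WithBot ℕ∞) ≤ ringKrullDim (T ⧸ Q) := by
  rw [(⟨n, inferInstance⟩ : PrimeSpectrum T).height_eq_orderHeight, Order.height_eq_krullDim_Iic,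
    ringKrullDim_quotient]
  exact Order.krullDim_le_of_strictMono
    (fun p : Set.Iic (⟨n, inferInstance⟩ : PrimeSpectrum T) => (⟨p.1, h p.1 p.2⟩ : PrimeSpectrum.zeroLocus (Q : Set T)))
    fun _ _ h => h

/-- Contraction along a flat extension with discrete fibres preserves heights. -/
theorem height_eq_height_comap {B T : Type u} [CommRing B] [CommRing T] [Algebra B T] [Module.Flat B T]
    (h : ∀ P P' : PrimeSpectrum T, P ≤ P' → PrimeSpectrum.comap (algebraMap B T) P =
      PrimeSpectrum.comap (algebraMap B T) P' → P = P') (n : Ideal T) [n.IsPrime] :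
    n.height = (n.comap (algebraMap B T)).height := by
  have hmono : StrictMono (PrimeSpectrum.comap (algebraMap B T)) := fun P P' hlt =>
    lt_of_le_of_ne (Ideal.comap_mono hlt.le) fun e => hlt.ne (h P P' hlt.le e)
  let x : PrimeSpectrum T := ⟨n, inferInstance⟩
  show x.asIdeal.height = (PrimeSpectrum.comap (algebraMap B T) x).asIdeal.height
  rw [PrimeSpectrum.height_eq_orderHeight, PrimeSpectrum.height_eq_orderHeight]
  refine le_antisymm (Order.height_le_height_apply_of_strictMono _ hmono x) ?_
  refine Order.height_le_iff.2 fun l hl => ?_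
  have hlast := Order.length_le_height (p := l) (x := l.last) le_rfl
  obtain ⟨y, hy, hyl⟩ : ∃ y : PrimeSpectrum T, y ≤ x ∧ PrimeSpectrum.comap (algebraMap B T) y = l.last := by
    haveI : n.LiesOver (n.comap (algebraMap B T)) := ⟨rfl⟩
    obtain ⟨y, hyn, hyp, ho⟩ := Ideal.exists_ideal_le_liesOver_of_le (p := l.last.asIdeal)
      (q := n.comap (algebraMap B T)) n hl
    exact ⟨⟨y, hyp⟩, hyn, PrimeSpectrum.ext ho.over.symm⟩
  haveI : y.asIdeal.LiesOver l.last.asIdeal := ⟨congr(($hyl).asIdeal).symm⟩
  obtain ⟨L, hL, hLlast, -⟩ := Ideal.exists_ltSeries_of_hasGoingDown l y.asIdeal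
  rw [← hL]
  exact Order.length_le_height (hLlast.le.trans hy)

section

variable (A : Type u) [CommRing A] [IsLocalRing A] (S : Type u) [CommRing S] [IsLocalRing S] [Algebra A S]
  [IsLocalHom (algebraMap A S)] [_root_.Hensel.IsHenselization A S]
  (B : Type u) [CommRing B] [Algebra A B] [Algebra.IsIntegral A B]

/-- Lower bounds on the dimensions of the components of a henselization match those on the heights of maximal
ideals of a normal cover. -/
theorem forall_height_iff_forall_dim
    (hN : ∀ m : Ideal B, ∀ [m.IsMaximal], IsDomain (Localization.AtPrime m) ∧ IsIntegrallyClosed (Localization.AtPrime m))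
    (hker : RingHom.ker (algebraMap A B) ≤ nilradical A)
    (hmin : Set.MapsTo (Ideal.comap (algebraMap A B)) (minimalPrimes B) (minimalPrimes A)) (d : WithBot ℕ∞) :
    (∀ m : MaximalSpectrum B, d ≤ m.asIdeal.height) ↔ ∀ Q ∈ minimalPrimes S, d ≤ ringKrullDim (S ⧸ Q) := by
  classical
  haveI : HenselianLocalRing S := _root_.Hensel.IsHenselization.henselian (R := A)
  have hH := isHenzLike_of_isHenselization A S
  have := hH.faithfullyFlat
  let iR : B →+* S ⊗[A] B := (Algebra.TensorProduct.includeRight : B →ₐ[A] S ⊗[A] B).toRingHom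
  let iL : S →+* S ⊗[A] B := algebraMap S (S ⊗[A] B)
  have hcomm : iR.comp (algebraMap A B) = iL.comp (algebraMap A S) := RingHom.ext fun a => by
    simp only [iR, iL, AlgHom.toRingHom_eq_coe, RingHom.comp_apply, RingHom.coe_coe, AlgHom.commutes, ← IsScalarTower.algebraMap_apply]
  have hmax : ∀ n : Ideal (S ⊗[A] B), n.IsMaximal → n.comap iL = maximalIdeal S ∧ (n.comap iR).IsMaximal := fun n hn => by
    have h1 : n.comap iL = maximalIdeal S := IsLocalRing.eq_maximalIdeal (Ideal.isMaximal_comap_of_isIntegral_of_isMaximal n)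
    refine ⟨h1, Ideal.isMaximal_of_isIntegral_of_isMaximal_comap (R := A) _ ?_⟩
    rw [Ideal.comap_comap, hcomm, ← Ideal.comap_comap, h1, IsLocalRing.maximalIdeal_comap]
    infer_instance
  -- the closed fibre
  have hclosed : ∀ x : S ⊗[A] B, ∃ b : B, x - iR b ∈ (maximalIdeal S).map iL := fun x => by
    induction x using TensorProduct.induction_on with
    | zero => exact ⟨0, by simp⟩
    | tmul s b =>
      obtain ⟨a, ha⟩ := exists_sub_mem_of_isHenselization A S s
      refine ⟨algebraMap A B a * b, ?_⟩
      have hh : s ⊗ₜ[A] b - iR (algebraMap A B a * b) = iL (s - algebraMap A S a) * iR b := by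
        simp only [iR, iL, AlgHom.toRingHom_eq_coe, RingHom.coe_coe, Algebra.TensorProduct.includeRight_apply,
          Algebra.TensorProduct.algebraMap_apply, Algebra.algebraMap_self, RingHom.id_apply,
          Algebra.TensorProduct.tmul_mul_tmul, mul_one, one_mul, TensorProduct.sub_tmul, sub_mul]
        rw [← Algebra.smul_def, ← TensorProduct.smul_tmul, ← Algebra.algebraMap_eq_smul_one]
      rw [hh]
      refine Ideal.mul_mem_right _ _ (Ideal.mem_map_of_mem _ ?_)
      rw [← map_maximalIdeal_of_isHenselization A S]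
      exact ha
    | add x y hx hy =>
      obtain ⟨b, hb⟩ := hx
      obtain ⟨c, hc⟩ := hy
      exact ⟨b + c, by rw [map_add, add_sub_add_comm]; exact add_mem hb hc⟩
  have hinj : ∀ (n n' : Ideal (S ⊗[A] B)), n.IsMaximal → n'.IsPrime → n'.comap iL = maximalIdeal S →
      n'.comap iR = n.comap iR → n' = n := fun n n' hn hn' h1 h2 => by
    ext x
    obtain ⟨b, hb⟩ := hclosed x
    have e1 := (Ideal.map_le_iff_le_comap.2 h1.ge) hb
    have e2 := (Ideal.map_le_iff_le_comap.2 (hmax n hn).1.ge) hb
    rw [← sub_add_cancel x (iR b), Ideal.add_mem_iff_right _ e1, Ideal.add_mem_iff_right _ e2]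
    exact SetLike.ext_iff.1 h2 b
  have hq : ∀ P : Ideal (S ⊗[A] B), (P.comap iL).comap (algebraMap A S) = (P.comap iR).comap (algebraMap A B) := fun P => by
    rw [Ideal.comap_comap, Ideal.comap_comap, hcomm]
  letI : Algebra B (S ⊗[A] B) := iR.toAlgebra
  haveI : Module.Flat B (S ⊗[A] B) :=
    Module.Flat.of_linearEquiv (M := B ⊗[A] S)
      (LinearEquiv.symm
        { (Algebra.TensorProduct.comm A B S).toAddEquiv with
          map_smul' := fun b x => by
            change Algebra.TensorProduct.comm A B S (b • x) = iR b * Algebra.TensorProduct.comm A B S x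
            rw [Algebra.smul_def, map_mul]
            simp [iR] })
  have hheight : ∀ (n : Ideal (S ⊗[A] B)) [n.IsPrime], n.height = (n.comap iR).height := fun n _ =>
    height_eq_height_comap (B := B) (T := S ⊗[A] B) (fun P P' hle he => by
      by_contra hne
      have hlt : P.asIdeal < P'.asIdeal := lt_of_le_of_ne hle fun e => hne (PrimeSpectrum.ext e)
      have he' : P.asIdeal.comap iR = P'.asIdeal.comap iR := congrArg PrimeSpectrum.asIdeal he
      haveI := P.isPrime
      haveI := P'.isPrime
      haveI : (P.asIdeal.comap iL).IsPrime := Ideal.IsPrime.comap iL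
      haveI : (P'.asIdeal.comap iL).IsPrime := Ideal.IsPrime.comap iL
      exact (Ideal.IsIntegral.comap_lt_comap (R := S) hlt).ne
        (hH.eq_of_le_of_comap_eq (Ideal.comap_mono hle) (by rw [hq, hq, he']))) n
  -- the primes over a component lie in one maximal ideal
  have hloc : ∀ (P : Ideal (S ⊗[A] B)) [P.IsPrime], ∀ n : Ideal (S ⊗[A] B), n.IsMaximal → P ≤ n →
      ∀ R : PrimeSpectrum (S ⊗[A] B), P ≤ R.asIdeal → R.asIdeal ≤ n := fun P _ n hn hPn R hR => by
    haveI : IsLocalRing ((S ⊗[A] B) ⧸ P) := isLocalRing_of_isIntegral_domain S _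
    haveI : (n.map (Ideal.Quotient.mk P)).IsMaximal :=
      (Ideal.map_eq_top_or_isMaximal_of_surjective _ Ideal.Quotient.mk_surjective hn).resolve_left fun h => by
        have := congrArg (Ideal.comap (Ideal.Quotient.mk P)) h
        rw [Ideal.comap_map_of_surjective _ Ideal.Quotient.mk_surjective, ← RingHom.ker_eq_comap_bot, Ideal.mk_ker,
          sup_eq_left.2 hPn, Ideal.comap_top] at this
        exact hn.ne_top this
    haveI : (R.asIdeal.map (Ideal.Quotient.mk P)).IsPrime :=
      Ideal.map_isPrime_of_surjective Ideal.Quotient.mk_surjective (by rw [Ideal.mk_ker]; exact hR)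
    have h1 : R.asIdeal.map (Ideal.Quotient.mk P) ≤ n.map (Ideal.Quotient.mk P) := by
      rw [IsLocalRing.eq_maximalIdeal (I := n.map (Ideal.Quotient.mk P)) inferInstance]
      exact IsLocalRing.le_maximalIdeal (Ideal.IsPrime.ne_top inferInstance)
    refine (Ideal.le_comap_map (f := Ideal.Quotient.mk P)).trans ((Ideal.comap_mono h1).trans ?_)
    rw [Ideal.comap_map_of_surjective _ Ideal.Quotient.mk_surjective, ← RingHom.ker_eq_comap_bot, Ideal.mk_ker,
      sup_eq_left.2 hPn]
  have hdim : ∀ (P : Ideal (S ⊗[A] B)), ringKrullDim ((S ⊗[A] B) ⧸ P) = ringKrullDim (S ⧸ P.comap iL) := fun P => by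
    letI : Algebra (S ⧸ P.comap iL) ((S ⊗[A] B) ⧸ P) := Ideal.Quotient.algebraQuotientOfLEComap le_rfl
    haveI : IsScalarTower S (S ⧸ P.comap iL) ((S ⊗[A] B) ⧸ P) := IsScalarTower.of_algebraMap_eq fun _ => rfl
    haveI : Algebra.IsIntegral (S ⧸ P.comap iL) ((S ⊗[A] B) ⧸ P) := Algebra.IsIntegral.tower_top (R := S)
    exact EGA41Lib.ringKrullDim_eq_of_integral Ideal.algebraMap_quotient_injective
  constructor
  · intro h Q hQ
    haveI := hQ.1.1
    obtain ⟨P, hP, hPQ⟩ : ∃ P : Ideal (S ⊗[A] B), P.IsPrime ∧ P.comap iL = Q := by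
      obtain ⟨P, -, hP, hPQ⟩ := Ideal.exists_ideal_over_prime_of_isIntegral Q (⊥ : Ideal (S ⊗[A] B)) (by
        intro x hx
        have h2 : x ∈ nilradical S := by
          rw [← hH.nilradical_map]
          have hx' : x ∈ RingHom.ker iL := hx
          refine Ideal.map_mono hker ?_
          have h3 := Module.Flat.lTensor_exact S (LinearMap.exact_subtype_ker_map (Algebra.linearMap A B))
          have h4 : (Algebra.linearMap A B).lTensor S (x ⊗ₜ (1 : A)) = 0 := by
            simpa [iL, Algebra.TensorProduct.algebraMap_apply] using hx'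
          obtain ⟨z, hz⟩ := (h3 _).1 h4
          have key : ∀ z, TensorProduct.rid A S ((LinearMap.ker (Algebra.linearMap A B)).subtype.lTensor S z) ∈
              (RingHom.ker (algebraMap A B)).map (algebraMap A S) := fun z => by
            induction z using TensorProduct.induction_on with
            | zero => simp
            | tmul s a =>
              rw [LinearMap.lTensor_tmul, TensorProduct.rid_tmul, Algebra.smul_def]
              exact Ideal.mul_mem_right _ _ (Ideal.mem_map_of_mem _ a.2)
            | add u v hu hv => rw [map_add, map_add]; exact add_mem hu hv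
          have h5 := key z
          rwa [hz, TensorProduct.rid_tmul, one_smul] at h5
        exact nilpotent_iff_mem_prime.1 (mem_nilradical.1 h2) Q inferInstance)
      exact ⟨P, hP, hPQ⟩
    haveI := hP
    obtain ⟨n, hn, hPn⟩ := Ideal.exists_le_maximal P hP.ne_top
    haveI := hn
    haveI := isDomain_localization_tensor A S B hN (fun n n' hn hn' h1 h2 => hinj n n' hn hn' h1 h2) n
    let P₀ := RingHom.ker (algebraMap (S ⊗[A] B) (Localization.AtPrime n))
    haveI : P₀.IsPrime := RingHom.ker_isPrime _
    have hle : ∀ R : PrimeSpectrum (S ⊗[A] B), R.asIdeal ≤ n → P₀ ≤ R.asIdeal := fun R hR x hx => by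
      obtain ⟨c, hc⟩ := (IsLocalization.map_eq_zero_iff n.primeCompl _ x).1 hx
      exact (R.2.mem_or_mem (hc ▸ R.asIdeal.zero_mem : (c : S ⊗[A] B) * x ∈ R.asIdeal)).resolve_left fun h => c.2 (hR h)
    have hP₀ : P₀.comap iL = Q := le_antisymm ((Ideal.comap_mono (hle ⟨P, hP⟩ hPn)).trans hPQ.le)
      (hQ.2 ⟨Ideal.IsPrime.comap iL, bot_le⟩ ((Ideal.comap_mono (hle ⟨P, hP⟩ hPn)).trans hPQ.le))
    have h1 := height_le_quotient_dim P₀ n hle
    rw [hdim, hP₀, hheight n] at h1
    exact (h ⟨n.comap iR, (hmax n hn).2⟩).trans h1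
  · intro h m
    haveI := m.isMaximal
    obtain ⟨⟨n', hn'⟩, hn'm⟩ : ∃ n : PrimeSpectrum (S ⊗[A] B), PrimeSpectrum.comap iR n = ⟨m.asIdeal, m.isMaximal.isPrime⟩ := by
      haveI : Module.FaithfullyFlat B (S ⊗[A] B) := Module.FaithfullyFlat.of_linearEquiv B (B ⊗[A] S)
        (LinearEquiv.symm
        { (Algebra.TensorProduct.comm A B S).toAddEquiv with
          map_smul' := fun b x => by
            change Algebra.TensorProduct.comm A B S (b • x) = iR b * Algebra.TensorProduct.comm A B S x
            rw [Algebra.smul_def, map_mul]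
            simp [iR] })
      exact PrimeSpectrum.comap_surjective_of_faithfullyFlat (B := S ⊗[A] B) _
    obtain ⟨n, hn, hle⟩ := Ideal.exists_le_maximal n' hn'.ne_top
    haveI := hn
    have hnm : n.comap iR = m.asIdeal := (m.isMaximal.eq_of_le (Ideal.IsPrime.comap iR).ne_top
      ((congrArg PrimeSpectrum.asIdeal hn'm).ge.trans (Ideal.comap_mono hle))).symm
    obtain ⟨P, hP, hPn⟩ := Ideal.exists_minimalPrimes_le (I := (⊥ : Ideal (S ⊗[A] B))) (J := n) bot_le
    haveI := hP.1.1
    haveI : (P.comap iL).IsPrime := Ideal.IsPrime.comap iL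
    have hQ : P.comap iL ∈ minimalPrimes S := by
      rw [mem_minimalPrimes_iff_comap hH, hq]
      refine hmin ⟨⟨Ideal.IsPrime.comap iR, bot_le⟩, fun r hr hle => ?_⟩
      haveI := hr.1
      haveI : P.LiesOver (P.comap iR) := ⟨rfl⟩
      obtain ⟨P', hP'le, hP', ho⟩ := Ideal.exists_ideal_le_liesOver_of_le (p := r) (q := P.comap iR) P hle
      rw [ho.over]
      exact Ideal.comap_mono (hP.2 ⟨hP', bot_le⟩ hP'le)
    have h1 := quotient_dim_le_height P n (hloc P n hn hPn)
    rw [hdim, hheight n, hnm] at h1
    exact (h _ hQ).trans h1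

end

/-- The heights of the maximal ideals of the normalization bound the dimensions of the components of the henselization. -/
theorem forall_normRed_iff_henselization (A : Type u) [CommRing A] [IsLocalRing A] [IsNoetherianRing A]
    (S : Type u) [CommRing S] [IsLocalRing S] [Algebra A S] [IsLocalHom (algebraMap A S)]
    [_root_.Hensel.IsHenselization A S] (d : WithBot ℕ∞) :
    (∀ m : MaximalSpectrum (CAlg2.normRed A), d ≤ ringKrullDim (Localization.AtPrime m.asIdeal)) ↔
      ∀ Q ∈ minimalPrimes S, d ≤ ringKrullDim (S ⧸ Q) := by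
  haveI : Finite (minimalPrimes A) := (minimalPrimes.finite_of_isNoetherianRing A).to_subtype
  rw [← forall_height_iff_forall_dim A S (CAlg2.normRed A) (fun m _ => isDomain_normal_localization (comps A) m)
    ?_ (bijOn_normRed A).mapsTo d]
  · refine forall_congr' fun m => ?_
    haveI := m.isMaximal
    rw [IsLocalization.AtPrime.ringKrullDim_eq_height m.asIdeal (Localization.AtPrime m.asIdeal)]
  · intro a ha
    rw [RingHom.mem_ker, IsScalarTower.algebraMap_apply A (CAlg2.red A) (CAlg2.normRed A)] at ha
    have : algebraMap A (CAlg2.red A) a = 0 :=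
      IsFractionRing.injective (CAlg2.red A) (FractionRing (CAlg2.red A)) (by
        rw [map_zero]; exact congrArg Subtype.val ha)
    exact Ideal.Quotient.eq_zero_iff_mem.1 this

end Groth.Agent.GeomBranch7
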