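import Groth.Agent.FormCat.HenzNormal
import Groth.Agent.PopescuLib.StrictGRing
import Groth.Agent.BrnchLib.DimOne
import Groth.Agent.S4696
import Groth.Agent.BrnchLib.EtNbhdAlg

/-!
# Branches of local rings with geometrically normal formal fibres are seen in the completion
-/

set_option linter.style.haveILetI false

universe u

open IsLocalRing TensorProduct

namespace Groth.Agent.GeomBranch7

open Groth.Agent.FlatLoc6
open Groth.Agent.FormCat (isLocalization_residue_of_isIntegral isIntegral_pi)

variable {R S : Type u} [CommRing R] [IsLocalRing R] [IsNoetherianRing R] [CommRing S] [IsLocalRing S] [Algebra R S]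
  [IsLocalHom (algebraMap R S)]

/-- Geometrically normal formal fibres pass to henselization-like extensions. -/
theorem hasGeomNormalFormalFibres_of_isHenzLike [IsNoetherianRing S] (hH : Hensel.IsHenzLike R S)
    (hC : EGA4.IsNormalHom R (EGA4.Cpl S)) : EGA4.HasGeomNormalFormalFibres S := by
  haveI := hH.faithfullyFlat
  haveI := FlatLoc6.isNoetherianRing_cpl S
  let C := EGA4.Cpl S
  intro q _ L _ _ hL
  haveI := hL
  letI : Algebra S L := ((algebraMap q.ResidueField L).comp (algebraMap S q.ResidueField)).toAlgebra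
  haveI : IsScalarTower S q.ResidueField L := IsScalarTower.of_algebraMap_eq' rfl
  letI : Algebra R L := ((algebraMap S L).comp (algebraMap R S)).toAlgebra
  haveI : IsScalarTower R S L := IsScalarTower.of_algebraMap_eq' rfl
  haveI : (RingHom.ker (algebraMap R L)).IsPrime := RingHom.ker_isPrime _
  let p := RingHom.ker (algebraMap R L)
  obtain ⟨_, _⟩ := FlatLoc6.exists_residueAlgebra (L := L) p rfl
  let T := S ⊗[R] L
  haveI : IsReduced T := hH.isReduced_tensor L
  letI : Algebra L T := Algebra.TensorProduct.rightAlgebra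
  haveI : Algebra.IsIntegral L T := by
    obtain ⟨n, K, _, _, hK, ⟨e⟩⟩ := hH.exists_fibre_equiv_pi p
    haveI := hK
    haveI : Algebra.IsIntegral p.ResidueField (p.ResidueField ⊗[R] S) :=
      haveI := isIntegral_pi (k := p.ResidueField) K
      e.isIntegral_iff.mpr inferInstance
    haveI : Algebra.IsIntegral L (L ⊗[R] S) :=
      (Algebra.TensorProduct.cancelBaseChange R p.ResidueField L L S).isIntegral_iff.mp inferInstance
    let g : L ⊗[R] S ≃ₐ[L] T := { (Algebra.TensorProduct.comm R L S).toRingEquiv with
      commutes' := fun z => by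
        show Algebra.TensorProduct.comm R L S (z ⊗ₜ 1) = (1 : S) ⊗ₜ z
        simp }
    exact g.isIntegral_iff.mp inferInstance
  letI : Algebra T L := (Algebra.TensorProduct.lift (IsScalarTower.toAlgHom R S L) (AlgHom.id R L)
    fun _ _ => Commute.all _ _).toRingHom.toAlgebra
  haveI : IsScalarTower L T L := IsScalarTower.of_algebraMap_eq fun z => by
    show _ = Algebra.TensorProduct.lift (IsScalarTower.toAlgHom R S L) (AlgHom.id R L) _ ((1 : S) ⊗ₜ z)
    simp
  haveI : (RingHom.ker (algebraMap T L)).IsPrime := RingHom.ker_isPrime _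
  haveI hloc := isLocalization_residue_of_isIntegral L T
  haveI : IsScalarTower S T L := IsScalarTower.of_algebraMap_eq fun s => by
    show _ = Algebra.TensorProduct.lift (IsScalarTower.toAlgHom R S L) (AlgHom.id R L) _ (s ⊗ₜ (1 : L))
    simp
  -- base change along `S → C`
  letI : Algebra (T ⊗[S] C) (L ⊗[S] C) :=
    (Algebra.TensorProduct.map (IsScalarTower.toAlgHom S T L) (AlgHom.id S C)).toRingHom.toAlgebra
  haveI : IsScalarTower T (T ⊗[S] C) (L ⊗[S] C) := IsScalarTower.of_algebraMap_eq fun c => by
    show _ = Algebra.TensorProduct.map (IsScalarTower.toAlgHom S T L) (AlgHom.id S C) (c ⊗ₜ 1)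
    simp
  haveI := IsLocalization.tensorProduct_tensorProduct (R := S) (A := T) (S := C)
    (RingHom.ker (algebraMap T L)).primeCompl L (RingHom.ext fun x => by
      show Algebra.TensorProduct.map (IsScalarTower.toAlgHom S T L) (AlgHom.id S C) (1 ⊗ₜ x) = _
      simp)
  have hL' : EGA4.IsNormalRing L := by
    haveI : IsRegularRing L := CplFib6.isRegularRing_of_local L
    exact FlatLoc6.isNormalRing_of_isRegularRing L
  have h1 : EGA4.IsNormalRing (C ⊗[R] L) := Groth.Agent.S2670.result R C hC L hL'
  have h2 : EGA4.IsNormalRing (T ⊗[S] C) := FlatLoc6.isNormalRing_of_ringEquiv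
    ((Algebra.TensorProduct.cancelBaseChange R S S C L).symm.toRingEquiv.trans
      (Algebra.TensorProduct.comm S C (S ⊗[R] L)).toRingEquiv) h1
  have h3 : EGA4.IsNormalRing (L ⊗[S] C) := FlatLoc6.isNormalRing_of_isLocalization
    (Algebra.algebraMapSubmonoid (T ⊗[S] C) (RingHom.ker (algebraMap T L)).primeCompl) _ h2
  exact FlatLoc6.isNormalRing_of_ringEquiv
    (Algebra.TensorProduct.cancelBaseChange S q.ResidueField L L C).symm.toRingEquiv h3

/-- Geometrically normal formal fibres pass to strict henselizations. -/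
theorem hasGeomNormalFormalFibres_strictHenselization [IsNoetherianRing S] [_root_.Hensel.IsStrictHenselization R S]
    (hR : EGA4.HasGeomNormalFormalFibres R) : EGA4.HasGeomNormalFormalFibres S := by
  have hH := Hensel.isHenzLike_of_isStrictHenselization R S
  refine hasGeomNormalFormalFibres_of_isHenzLike hH ?_
  have h := PopescuLib.isRegularHom_of_isHenzLike hH
  haveI := h.1
  have hfs := RegFS6.fs_of_flat_of_geometricallyRegular (h.2 (maximalIdeal R)).2
  haveI := isLocalRing_cpl R
  haveI := isLocalRing_cpl S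
  haveI := isNoetherianRing_cpl R
  haveI := isNoetherianRing_cpl S
  haveI := faithfullyFlat_cpl R
  haveI := CplFib6.isAdicComplete_cpl R
  haveI := CplFib6.isAdicComplete_cpl S
  obtain ⟨_, hst, hff⟩ := exists_cplHom R S
  haveI := hst
  haveI : IsLocalHom (algebraMap (EGA4.Cpl R) (EGA4.Cpl S)) := by
    refine ((local_hom_TFAE _).out 0 2).mpr ?_
    rw [AdicCompletion.maximalIdeal_eq_map_of_fg (IsNoetherian.noetherian _), Ideal.map_map,
      ← IsScalarTower.algebraMap_eq, IsScalarTower.algebraMap_eq R S (EGA4.Cpl S), ← Ideal.map_map,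
      AdicCompletion.maximalIdeal_eq_map_of_fg (IsNoetherian.noetherian _)]
    exact Ideal.map_mono (((local_hom_TFAE (algebraMap R S)).out 0 2).mp (inferInstance : IsLocalHom (algebraMap R S)))
  exact Groth.Agent.S4696.result R (EGA4.Cpl R) (EGA4.Cpl S) ⟨inferInstance, hR⟩
    (isNormalHom_of_isRegularHom (EGA4.Cpl R) (EGA4.Cpl S) (RegFS6.isRegularHom_of_fs_of_complete (RegFS6.fs_cpl hfs)))

theorem faithfullyFlat_toAlgebra (A B : Type u) [CommRing A] [CommRing B] [Algebra A B] [h : Module.FaithfullyFlat A B] :
    letI := (algebraMap A B).toAlgebra; Module.FaithfullyFlat A B := by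
  have : (algebraMap A B).toAlgebra = ‹Algebra A B› := Algebra.algebra_ext _ _ fun _ => rfl
  rw [this]
  exact h

/-- A henselian local ring with geometrically normal formal fibres has as many minimal primes as its completion. -/
theorem card_minimalPrimes_cpl (A : Type u) [CommRing A] [IsNoetherianRing A] [HenselianLocalRing A]
    (hA : EGA4.HasGeomNormalFormalFibres A) :
    ENat.card (minimalPrimes (EGA4.Cpl A)) = ENat.card (minimalPrimes A) := by
  haveI := faithfullyFlat_cpl A
  have hff := faithfullyFlat_toAlgebra A (EGA4.Cpl A)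
  refine ENat.card_congr (Equiv.ofBijective
    (fun P : minimalPrimes (EGA4.Cpl A) =>
      (⟨P.1.comap (algebraMap A (EGA4.Cpl A)), BrnchLib.comap_mem_minimalPrimes _ hff P.2⟩ : minimalPrimes A))
    ⟨fun P P' h => ?_, fun q => ?_⟩)
  · have hPP' : P.1.comap (algebraMap A (EGA4.Cpl A)) = P'.1.comap (algebraMap A (EGA4.Cpl A)) :=
      congrArg Subtype.val h
    haveI := P.2.1.1
    haveI := P'.2.1.1
    let p := P.1.comap (algebraMap A (EGA4.Cpl A))
    haveI := FormCat.isDomain_formalFibre_finite A hA p p.ResidueField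
    haveI : IsDomain (EGA4.formalFibre A p) :=
      (Algebra.TensorProduct.lid p.ResidueField (EGA4.formalFibre A p)).symm.toRingEquiv.toMulEquiv.isDomain
    let e := PrimeSpectrum.preimageEquivFiber A (EGA4.Cpl A) ⟨p, inferInstance⟩
    let η : PrimeSpectrum (p.Fiber (EGA4.Cpl A)) := ⟨⊥, Ideal.isPrime_bot⟩
    have key : ∀ Q : Ideal (EGA4.Cpl A), ∀ hQ : Q ∈ minimalPrimes (EGA4.Cpl A),
        Q.comap (algebraMap A (EGA4.Cpl A)) = p → Q = (e.symm η).1.asIdeal := fun Q hQ hc => by
      let x : PrimeSpectrum.comap (algebraMap A (EGA4.Cpl A)) ⁻¹' {⟨p, inferInstance⟩} :=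
        ⟨⟨Q, hQ.1.1⟩, PrimeSpectrum.ext hc⟩
      have hle : (e.symm η).1.asIdeal ≤ Q := by
        have h0 : η ≤ e x := bot_le (a := (e x).asIdeal)
        have h1 := ((PrimeSpectrum.preimageOrderIsoFiber A (EGA4.Cpl A) ⟨p, inferInstance⟩).symm.monotone h0)
        have h2 : (e.symm (e x)).1 = x.1 := congrArg Subtype.val (e.symm_apply_apply x)
        exact le_trans h1 h2.le
      exact le_antisymm (hQ.2 ⟨(e.symm η).1.isPrime, bot_le⟩ hle) hle
    exact Subtype.ext ((key P.1 P.2 rfl).trans (key P'.1 P'.2 hPP'.symm).symm)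
  · obtain ⟨P, hP, h⟩ := BrnchLib.surjOn_minimalPrimes _ hff q.2
    exact ⟨⟨P, hP⟩, Subtype.ext h⟩

theorem numBranches_completion_eq (A : Type u) [CommRing A] [IsLocalRing A] [IsNoetherianRing A]
    (hA : EGA4.HasGeomNormalFormalFibres A) :
    Brnch.numBranches (AdicCompletion (maximalIdeal A) A) = Brnch.numBranches A := by
  let S := Groth.Agent.Hensel.LocalHenz A
  let T := AdicCompletion (maximalIdeal A) A
  haveI hT := BrnchLib.henselianLocalRing_completion A
  haveI : HenselianLocalRing S := _root_.Hensel.IsHenselization.henselian A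
  haveI : IsNoetherianRing S :=
    (Groth.Agent.Hensel.isHenzLike_of_isHenselization A S).isNoetherianRing_iff.1 inferInstance
  haveI hl : IsLocalHom (algebraMap T T) := ⟨fun _ hu => hu⟩
  haveI := Groth.Agent.Hensel.isHenselization_self T hT
  rw [← BrnchLib.card_minimalPrimes_henselization A S, ← BrnchLib.card_minimalPrimes_henselization T T,
    ← card_minimalPrimes_cpl S (FormCat.hasGeomNormalFormalFibres_henselization (R := A) hA)]
  exact BrnchLib.EtNbhd.encard_congr (BrnchLib.complEquiv A S).symm

theorem numGeomBranches_completion_eq (A : Type u) [CommRing A] [IsLocalRing A] [IsNoetherianRing A]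
    (hA : EGA4.HasGeomNormalFormalFibres A) :
    Brnch.numGeomBranches (AdicCompletion (maximalIdeal A) A) = Brnch.numGeomBranches A := by
  let B := AdicCompletion (maximalIdeal A) A
  haveI : IsNoetherianRing B := Groth.Agent.FormalFib6.isNoetherianRing_adicCompletion A _
  haveI : Module.Flat A B := AdicCompletion.flat_of_isNoetherian _
  refine le_antisymm ?_ (BrnchLib.numGeomBranches_le_completion A)
  obtain ⟨S, _, _, _, _, hS⟩ := BrnchLib.exists_strictHenselization A
  obtain ⟨T, _, _, _, _, hT⟩ := BrnchLib.exists_strictHenselization B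
  obtain ⟨g, hg, hl, hff⟩ := BrnchLib.exists_faithfullyFlat_strict A B S T
  haveI := hl
  haveI : HenselianLocalRing S := _root_.Hensel.IsStrictHenselization.henselian A
  haveI : IsNoetherianRing S := (S0540.result A S).1 inferInstance
  haveI : IsNoetherianRing T := (S0540.result B T).1 inferInstance
  letI := g.toAlgebra
  haveI : IsLocalHom (algebraMap S T) := hl
  haveI : Module.FaithfullyFlat S T := hff
  have hm : (maximalIdeal S).map (algebraMap S T) = maximalIdeal T := by
    rw [← S0538.result A S, Ideal.map_map]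
    show Ideal.map (g.comp (algebraMap A S)) _ = _
    rw [hg, ← Ideal.map_map, ← AdicCompletion.maximalIdeal_eq_map]
    exact S0538.result B T
  have hs := BrnchLib.residue_surjective_strict A B
    (AdicCompletion.residueField_map_bijective_of_fg (R := A) (maximalIdeal A).fg_of_isNoetherianRing).2 S T g hg
  obtain ⟨_, -, hbij⟩ := PopescuLib.exists_cpl_iso S T hm hs
  haveI := faithfullyFlat_cpl T
  have hffT := faithfullyFlat_toAlgebra T (EGA4.Cpl T)
  rw [← BrnchLib.card_minimalPrimes_strictHenselization A S, ← BrnchLib.card_minimalPrimes_strictHenselization B T,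
    ← card_minimalPrimes_cpl S (hasGeomNormalFormalFibres_strictHenselization (R := A) hA)]
  refine (BrnchLib.card_le_of_surjOn (algebraMap T (EGA4.Cpl T)) hffT).trans_eq ?_
  exact (BrnchLib.EtNbhd.encard_congr (RingEquiv.ofBijective (algebraMap (EGA4.Cpl S) (EGA4.Cpl T)) hbij)).symm

end Groth.Agent.GeomBranch7
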